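import Groth.Agent.SmDef.Proj
import Groth.Agent.FComplLib.Thicken

/-!
# Lifting deformations along small extensions
-/

set_option autoImplicit false
attribute [-instance] CategoryTheory.catToReflQuiver
set_option linter.style.haveILetI false
set_option backward.isDefEq.respectTransparency false
set_option backward.isDefEq.respectTransparency.types false
set_option maxHeartbeats 1000000

universe u

open CategoryTheory CategoryTheory.Limits AlgebraicGeometry TopologicalSpace Opposite

namespace Groth.Agent.SmDef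

theorem exists_lift_small {k A' : Type u} [Field k] [CommRing A'] [IsLocalRing A'] [IsArtinianRing A']
    (t : A') (ht : t ∈ IsLocalRing.maximalIdeal A') (htm : ∀ a ∈ IsLocalRing.maximalIdeal A', a * t = 0)
    (e : (A' ⧸ Ideal.span {t}) →+* k) (he : Function.Surjective e)
    {X Y : Scheme.{u}} (r : X ⟶ Spec (CommRingCat.of k)) [Smooth r] [IsSeparated r] [HasExt.{u} X.Modules]
    (h2 : Subsingleton (Abelian.Ext.{u} (Omega.sheaf r) (Coh.structureModule X) 2))
    (f : Y ⟶ Spec (CommRingCat.of (A' ⧸ Ideal.span {t}))) [Flat f] (i : X ⟶ Y)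
    (hY : IsPullback i r f (Spec.map (CommRingCat.ofHom e))) :
    ∃ (Y' : Scheme.{u}) (f' : Y' ⟶ Spec (CommRingCat.of A')) (j : Y ⟶ Y'), Flat f' ∧
      IsPullback j f f' (Spec.map (CommRingCat.ofHom (Ideal.Quotient.mk (Ideal.span {t})))) := by
  let A := A' ⧸ Ideal.span {t}
  haveI : Nontrivial A := Ideal.Quotient.nontrivial_iff.2 fun h =>
    (IsLocalRing.maximalIdeal.isMaximal A').ne_top
      (top_le_iff.1 (h.symm.le.trans ((Ideal.span_singleton_le_iff_mem _).2 ht)))
  haveI : IsLocalRing A := IsLocalRing.of_surjective' (Ideal.Quotient.mk _) Ideal.Quotient.mk_surjective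
  haveI : IsArtinianRing A := inferInstance
  have hker : RingHom.ker e = IsLocalRing.maximalIdeal A :=
    IsLocalRing.eq_maximalIdeal (RingHom.ker_isMaximal_of_surjective e he)
  let ec : CommRingCat.of A ⟶ CommRingCat.of k := CommRingCat.ofHom e
  haveI : IsClosedImmersion (Spec.map ec) := IsClosedImmersion.spec_of_surjective ec he
  haveI : Subsingleton (PrimeSpectrum A) := ⟨fun p q => PrimeSpectrum.ext
    ((IsLocalRing.eq_maximalIdeal (IsArtinianRing.isMaximal_of_isPrime p.asIdeal)).trans
      (IsLocalRing.eq_maximalIdeal (IsArtinianRing.isMaximal_of_isPrime q.asIdeal)).symm)⟩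
  haveI : Subsingleton (Spec (CommRingCat.of A) : Scheme.{u}) := ‹Subsingleton (PrimeSpectrum A)›
  haveI : Surjective (Spec.map ec) :=
    ⟨fun y => ⟨IsLocalRing.closedPoint k, Subsingleton.elim _ _⟩⟩
  haveI : LocallyOfFiniteType f := FComplLib.locallyOfFiniteType_of_thickening hY
  haveI : LocallyOfFinitePresentation f := inferInstance
  -- the special fibre over the residue field
  let ε : CommRingCat.of (IsLocalRing.ResidueField A) ⟶ CommRingCat.of k :=
    CommRingCat.ofHom (Ideal.Quotient.lift (IsLocalRing.maximalIdeal A) e fun a ha => by rwa [← hker] at ha)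
  haveI : IsIso ε := (ConcreteCategory.isIso_iff_bijective ε).2
    ⟨(injective_iff_map_eq_zero ε.hom).2 fun x hx => by
      obtain ⟨a, rfl⟩ := Ideal.Quotient.mk_surjective x
      exact Ideal.Quotient.eq_zero_iff_mem.2 (by rw [← hker]; exact hx),
      fun y => by obtain ⟨a, rfl⟩ := he y; exact ⟨Ideal.Quotient.mk _ a, rfl⟩⟩
  have hsq : IsPullback i (r ≫ Spec.map ε) f (Spec.map (CommRingCat.ofHom (IsLocalRing.residue A))) := by
    refine hY.of_iso (Iso.refl _) (Iso.refl _) (asIso (Spec.map ε)) (Iso.refl _) (by simp) (by simp) (by simp) ?_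
    simp only [asIso_hom, Iso.refl_hom, Category.comp_id]
    rw [← Spec.map_comp]
    congr 1
  haveI : Smooth f := smooth_of_closedFibre' f (fun U hU => eq_top_iff.2 fun y _ => hU y (Subsingleton.elim _ _)) hsq
  haveI : IsClosedImmersion i := MorphismProperty.of_isPullback hY.flip ‹IsClosedImmersion (Spec.map ec)›
  haveI : Surjective i :=
    MorphismProperty.of_isPullback (P := (@Surjective : MorphismProperty Scheme.{u})) hY.flip ‹_›
  haveI : IsSeparated f := by
    haveI : IsSeparated (i ≫ f) := by rw [hY.w]; infer_instance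
    exact Groth.Agent.DescLib.isSeparated_of_comp_surjective i f
  haveI : (RingHom.ker ec.hom).IsMaximal := RingHom.ker_isMaximal_of_surjective e he
  obtain ⟨Y', f', j, hs, hj⟩ := exists_step_smooth (CommRingCat.ofHom (Ideal.Quotient.mk (Ideal.span {t}))) ec
    Ideal.Quotient.mk_surjective he (by
      rw [eq_bot_iff, Ideal.mul_le]
      intro a ha b hb
      have hb' : b ∈ Ideal.span {t} := Ideal.Quotient.eq_zero_iff_mem.1 hb
      obtain ⟨c, rfl⟩ := Ideal.mem_span_singleton'.1 hb'
      have hne : RingHom.ker (CommRingCat.ofHom (Ideal.Quotient.mk (Ideal.span {t})) ≫ ec).hom ≠ ⊤ :=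
        RingHom.ker_ne_top _
      have ha' : a * t = 0 := htm a (IsLocalRing.le_maximalIdeal hne ha)
      show a * (c * t) ∈ ⊥
      rw [mul_left_comm, ha', mul_zero]
      exact zero_mem _) f r i hY h2
  haveI := hs
  exact ⟨Y', f', j, inferInstance, hj⟩

end Groth.Agent.SmDef
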