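import Groth.Agent.SmDef.Proj
import Groth.Agent.Boundary.CurveProj
import Groth.Agent.Snapper.DimVanish

/-!
# Smooth proper curves lift
-/

set_option autoImplicit false
attribute [-instance] CategoryTheory.catToReflQuiver
set_option linter.style.haveILetI false
set_option backward.isDefEq.respectTransparency false
set_option backward.isDefEq.respectTransparency.types false
set_option maxHeartbeats 1000000

universe u

open CategoryTheory CategoryTheory.Limits AlgebraicGeometry TopologicalSpace Opposite Abelian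

namespace Groth.Agent.SmDef

theorem subsingleton_ext_of_dim_le {X : Scheme.{u}} [IsNoetherian X] [X.IsSeparated] [HasExt.{u} X.Modules]
    {d : ℕ} (hd : topologicalKrullDim X ≤ d) {F M : X.Modules} (hF : FlatMod.IsFinLocFree F) (hM : Coh.IsQCoh M)
    {i : ℕ} (hi : d < i) : Subsingleton (Ext.{u} F M i) := by
  haveI := VBPnX.SheafExtInj.hasSheafHom F
  let e : (DCoh.tensorBi.obj F : X.Modules ⥤ X.Modules) ≅ DCoh.tensorBi.flip.obj F :=
    ((KFlatLib.tensorBiFlipIso X).app F).symm
  let adj' : (DCoh.tensorBi.flip.obj F : X.Modules ⥤ X.Modules) ⊣ DCoh.sheafHom F :=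
    (DCoh.sheafHomAdj F).ofNatIsoLeft e
  haveI : ModSite.HasSheafHom (O := X.sheaf) F := ⟨_, ⟨adj'⟩⟩
  have hq : Coh.IsQCoh ((DCoh.sheafHom F).obj M) :=
    (QCoh.isQCoh_iff_iso ((adj'.rightAdjointUniq (ModSite.sheafHomAdj (O := X.sheaf) F)).app M)).2
      (ExtFin7.isQCoh_sheafHom hF hM)
  obtain ⟨eh⟩ := S12483.result X F M hF i
  haveI := Snapper.subsingleton_HH_of_dim_le hd hq hi
  exact eh.toEquiv.subsingleton

theorem exists_curve_lift (A : Type u) [CommRing A] [IsLocalRing A] [IsNoetherianRing A]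
    [IsAdicComplete (IsLocalRing.maximalIdeal A) A] {X₀ : Scheme.{u}}
    (f₀ : X₀ ⟶ Spec (CommRingCat.of (IsLocalRing.ResidueField A))) [Smooth f₀] [IsProper f₀]
    (hdim : topologicalKrullDim X₀ = 1) :
    ∃ (X : Scheme.{u}) (f : X ⟶ Spec (CommRingCat.of A)) (_ : Smooth f) (_ : IsProper f)
      (e : X₀ ≅ pullback f (Spec.map (CommRingCat.ofHom (IsLocalRing.residue A)))),
      e.hom ≫ pullback.snd f _ = f₀ := by
  letI : X₀.Over (Spec (CommRingCat.of (IsLocalRing.ResidueField A))) := ⟨f₀⟩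
  haveI : IsProper (X₀ ↘ Spec (CommRingCat.of (IsLocalRing.ResidueField A))) := ‹IsProper f₀›
  haveI : IsNoetherian X₀ := CurveCohLib.isNoetherian_of_proper (k := IsLocalRing.ResidueField A) (X := X₀)
  obtain ⟨L₀, hL₀⟩ := Boundary.exists_isAmple (IsLocalRing.ResidueField A) (X := X₀) hdim.le
  haveI : X₀.IsSeparated := AmpleX.isSeparated_of_isAmple hL₀
  have hd : topologicalKrullDim X₀ ≤ (1 : ℕ) := by exact_mod_cast hdim.le
  haveI : HasExt.{u} X₀.Modules := IsGrothendieckAbelian.hasExt _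
  obtain ⟨X, f, i, hs, hp, -, sq⟩ := exists_ample_lift A X₀ f₀ hL₀
    (subsingleton_ext_of_dim_le hd (isFinLocFree_omega f₀) QCoh.isQCoh_structureModule one_lt_two)
    (Snapper.subsingleton_HH_of_dim_le hd QCoh.isQCoh_structureModule one_lt_two)
  exact ⟨X, f, hs, hp, sq.isoPullback, sq.isoPullback_hom_snd⟩

end Groth.Agent.SmDef
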